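import Mathlib
import Groth.Prelude.Def_W4c6intromoduliQuartic

/-!
# Split binary quartics with the same absolute invariant are equivalent
-/

set_option autoImplicit false
universe u

namespace Groth.Agent.Quartic

open W4c6intromoduli

section Ring
variable {R : Type u} [CommRing R]

/-- The explicit coefficients. -/
def e (la mu : Fin 4 → R) : ℕ → R
  | 0 => mu 0 * mu 1 * mu 2 * mu 3
  | 1 => -(la 0 * mu 1 * mu 2 * mu 3 + mu 0 * la 1 * mu 2 * mu 3 + mu 0 * mu 1 * la 2 * mu 3 + mu 0 * mu 1 * mu 2 * la 3)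
  | 2 => la 0 * la 1 * mu 2 * mu 3 + la 0 * mu 1 * la 2 * mu 3 + la 0 * mu 1 * mu 2 * la 3 +
      mu 0 * la 1 * la 2 * mu 3 + mu 0 * la 1 * mu 2 * la 3 + mu 0 * mu 1 * la 2 * la 3
  | 3 => -(la 0 * la 1 * la 2 * mu 3 + la 0 * la 1 * mu 2 * la 3 + la 0 * mu 1 * la 2 * la 3 + mu 0 * la 1 * la 2 * la 3)
  | 4 => la 0 * la 1 * la 2 * la 3
  | _ => 0

theorem coef_eq (la mu : Fin 4 → R) : ∀ i, i ≤ 4 → coef la mu i = e la mu i := by
  open Polynomial in
  have h : rootPoly la mu = C (e la mu 0) + C (e la mu 1) * X + C (e la mu 2) * X ^ 2 +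
      C (e la mu 3) * X ^ 3 + C (e la mu 4) * X ^ 4 := by
    simp only [rootPoly, Fin.prod_univ_four, e, map_add, map_mul, map_neg]
    ring
  intro i hi
  unfold coef
  rw [h]
  interval_cases i <;> simp [Polynomial.coeff_X, Polynomial.coeff_C]

theorem invI_eq (la mu : Fin 4 → R) : invI (coef la mu) = invI (e la mu) := by
  simp only [invI, coef_eq la mu 0 (by omega), coef_eq la mu 1 (by omega), coef_eq la mu 2 (by omega),
    coef_eq la mu 3 (by omega), coef_eq la mu 4 (by omega)]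

theorem invJ_eq (la mu : Fin 4 → R) : invJ (coef la mu) = invJ (e la mu) := by
  simp only [invJ, coef_eq la mu 0 (by omega), coef_eq la mu 1 (by omega), coef_eq la mu 2 (by omega),
    coef_eq la mu 3 (by omega), coef_eq la mu 4 (by omega)]

end Ring

variable {k : Type u} [Field k]

/-- Equivalence up to substitution and scalars. -/
def Equiv' (f g : MvPolynomial (Fin 2) k) : Prop :=
  ∃ (M : Matrix (Fin 2) (Fin 2) k) (c : k), IsUnit M.det ∧ c ≠ 0 ∧ g = MvPolynomial.C c * subst M f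

theorem subst_subst (M N : Matrix (Fin 2) (Fin 2) k) (f : MvPolynomial (Fin 2) k) :
    subst M (subst N f) = subst (N * M) f := by
  have : (subst M).comp (subst N) = subst (N * M) := by
    refine MvPolynomial.algHom_ext fun i => ?_
    simp [subst, Matrix.mul_apply, Fin.sum_univ_two]
    ring
  exact AlgHom.congr_fun this f

theorem subst_one (f : MvPolynomial (Fin 2) k) : subst (1 : Matrix (Fin 2) (Fin 2) k) f = f := by
  have : subst (1 : Matrix (Fin 2) (Fin 2) k) = AlgHom.id k _ := by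
    refine MvPolynomial.algHom_ext fun i => ?_
    fin_cases i <;> simp [subst, Fin.sum_univ_two]
  rw [this]; rfl

theorem Equiv'.trans {f g h : MvPolynomial (Fin 2) k} (h1 : Equiv' f g) (h2 : Equiv' g h) : Equiv' f h := by
  obtain ⟨M, c, hM, hc, rfl⟩ := h1
  obtain ⟨N, d, hN, hd, rfl⟩ := h2
  refine ⟨M * N, d * c, by rw [Matrix.det_mul]; exact hM.mul hN, mul_ne_zero hd hc, ?_⟩
  rw [map_mul, MvPolynomial.algHom_C, subst_subst, MvPolynomial.algebraMap_eq, map_mul, mul_assoc]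

theorem Equiv'.symm {f g : MvPolynomial (Fin 2) k} (h1 : Equiv' f g) : Equiv' g f := by
  obtain ⟨M, c, hM, hc, rfl⟩ := h1
  refine ⟨M⁻¹, c⁻¹, M.isUnit_nonsing_inv_det hM, inv_ne_zero hc, ?_⟩
  rw [map_mul, MvPolynomial.algHom_C, subst_subst, Matrix.mul_nonsing_inv M hM, subst_one,
    MvPolynomial.algebraMap_eq, ← mul_assoc, ← map_mul, inv_mul_cancel₀ hc, map_one, one_mul]

theorem Equiv'.refl (f : MvPolynomial (Fin 2) k) : Equiv' f f :=
  ⟨1, 1, by simp, one_ne_zero, by rw [map_one, one_mul, subst_one]⟩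

open MvPolynomial in
/-- The normal form with roots `0, ∞, 1, t`. -/
noncomputable def N (t : k) : MvPolynomial (Fin 2) k := X 0 * X 1 * (X 0 - X 1) * (X 0 - C t * X 1)

/-- The `I` of the normal form. -/
def P (t : k) : k := t ^ 2 - t + 1

/-- The `J` of the normal form. -/
def Q (t : k) : k := (t + 1) * (9 * t - 2 * (t + 1) ^ 2)

theorem swap_equiv {t : k} (ht : t ≠ 0) : Equiv' (N t) (N t⁻¹) := by
  refine ⟨!![0, 1; 1, 0], t⁻¹, by simp [Matrix.det_fin_two], inv_ne_zero ht, ?_⟩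
  simp only [N, subst, map_mul, map_sub, MvPolynomial.aeval_X, MvPolynomial.algHom_C,
    MvPolynomial.algebraMap_eq, Fin.sum_univ_two, Matrix.cons_val', Matrix.cons_val_zero, Matrix.cons_val_one,
    Matrix.of_apply, Matrix.cons_val_fin_one, map_zero, map_one, zero_mul, one_mul, zero_add, add_zero]
  have h : MvPolynomial.C t⁻¹ * MvPolynomial.C t = (1 : MvPolynomial (Fin 2) k) := by
    rw [← map_mul, inv_mul_cancel₀ ht, map_one]
  linear_combination -(MvPolynomial.X 0 * MvPolynomial.X 1 * MvPolynomial.X 0 *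
    (MvPolynomial.X 0 - MvPolynomial.X 1)) * h

theorem flip_equiv (t : k) : Equiv' (N t) (N (1 - t)) := by
  refine ⟨!![-1, 1; 0, 1], -1, by simp [Matrix.det_fin_two], by simp, ?_⟩
  simp only [N, subst, map_mul, map_sub, MvPolynomial.aeval_X, MvPolynomial.algHom_C,
    MvPolynomial.algebraMap_eq, Fin.sum_univ_two, Matrix.cons_val', Matrix.cons_val_zero, Matrix.cons_val_one,
    Matrix.of_apply, Matrix.cons_val_fin_one, map_zero, map_one, map_neg, zero_mul, one_mul, zero_add, add_zero]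
  ring

theorem normal_equiv {s t : k} (hs : s ≠ 0) (hs' : s ≠ 1) (ht : t ≠ 0) (ht' : t ≠ 1)
    (h : P s ^ 3 * (t * (t - 1)) ^ 2 = P t ^ 3 * (s * (s - 1)) ^ 2) : Equiv' (N s) (N t) := by
  have key : (t - s) * (s * t - 1) * (t - (1 - s)) * (t * (1 - s) - 1) * (t * s - (s - 1)) * (t * (s - 1) - s) = 0 := by
    simp only [P] at h
    linear_combination h
  have hs1 : 1 - s ≠ 0 := sub_ne_zero.2 (Ne.symm hs')
  simp only [mul_eq_zero] at key
  rcases key with ((((key | key) | key) | key) | key) | key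
  · rw [sub_eq_zero.1 key]; exact Equiv'.refl _
  · have : t = s⁻¹ := eq_inv_of_mul_eq_one_right (sub_eq_zero.1 key)
    rw [this]; exact swap_equiv hs
  · rw [sub_eq_zero.1 key]; exact flip_equiv s
  · have : t = (1 - s)⁻¹ := eq_inv_of_mul_eq_one_left (sub_eq_zero.1 key)
    rw [this]; exact (flip_equiv s).trans (swap_equiv hs1)
  · have : t = 1 - s⁻¹ := by field_simp; linear_combination key
    rw [this]; exact (swap_equiv hs).trans (flip_equiv _)
  · have : t = 1 - (1 - s)⁻¹ := by field_simp; linear_combination -key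
    rw [this]; exact ((flip_equiv s).trans (swap_equiv hs1)).trans (flip_equiv _)

open MvPolynomial in
theorem exists_normal (la mu : Fin 4 → k) (hd : disc la mu ≠ 0) :
    ∃ t w : k, t ≠ 0 ∧ t ≠ 1 ∧ w ≠ 0 ∧ Equiv' (binForm la mu) (N t) ∧
      invI (coef la mu) = w ^ 2 * P t ∧ (invJ (coef la mu)) ^ 2 = w ^ 6 * Q t ^ 2 := by
  have hne : ∀ i j : Fin 4, i < j → la j * mu i - la i * mu j ≠ 0 := by
    intro i j hij h0
    exact hd (Finset.prod_eq_zero (i := (i, j)) (by simp [hij]) (by simp [h0]))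
  obtain ⟨D, hD⟩ : ∃ D, D = la 1 * mu 0 - la 0 * mu 1 := ⟨_, rfl⟩
  have hD0 : D ≠ 0 := hD ▸ hne 0 1 (by decide)
  obtain ⟨a, ha⟩ : ∃ a, a = (la 1 * mu 2 - la 2 * mu 1) / D := ⟨_, rfl⟩
  obtain ⟨b, hb⟩ : ∃ b, b = (la 2 * mu 0 - la 0 * mu 2) / D := ⟨_, rfl⟩
  obtain ⟨p, hp⟩ : ∃ p, p = (la 1 * mu 3 - la 3 * mu 1) / D := ⟨_, rfl⟩
  obtain ⟨q, hq⟩ : ∃ q, q = (la 3 * mu 0 - la 0 * mu 3) / D := ⟨_, rfl⟩
  have ha0 : a ≠ 0 := by
    rw [ha]; refine div_ne_zero (fun h => hne 1 2 (by decide) ?_) hD0; linear_combination -h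
  have hb0 : b ≠ 0 := by rw [hb]; exact div_ne_zero (hne 0 2 (by decide)) hD0
  have hp0 : p ≠ 0 := by
    rw [hp]; refine div_ne_zero (fun h => hne 1 3 (by decide) ?_) hD0; linear_combination -h
  have hq0 : q ≠ 0 := by rw [hq]; exact div_ne_zero (hne 0 3 (by decide)) hD0
  have l2 : la 2 = a * la 0 + b * la 1 := by rw [ha, hb]; field_simp; rw [hD]; ring
  have m2 : mu 2 = a * mu 0 + b * mu 1 := by rw [ha, hb]; field_simp; rw [hD]; ring
  have l3 : la 3 = p * la 0 + q * la 1 := by rw [hp, hq]; field_simp; rw [hD]; ring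
  have m3 : mu 3 = p * mu 0 + q * mu 1 := by rw [hp, hq]; field_simp; rw [hD]; ring
  refine ⟨b * p / (a * q), D ^ 2 * (a * q), div_ne_zero (mul_ne_zero hb0 hp0) (mul_ne_zero ha0 hq0), ?_,
    mul_ne_zero (pow_ne_zero _ hD0) (mul_ne_zero ha0 hq0), ?_, ?_, ?_⟩
  · intro h
    rw [div_eq_one_iff_eq (mul_ne_zero ha0 hq0)] at h
    refine hne 2 3 (by decide) ?_
    rw [l2, m2, l3, m3]
    linear_combination (-D) * h + (b * p - a * q) * hD
  · refine ⟨!![la 0 * a, la 1 * b; mu 0 * a, mu 1 * b], (D ^ 4 * a ^ 2 * b ^ 2 * (a * q))⁻¹ * (-1), ?_, ?_, ?_⟩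
    · rw [Matrix.det_fin_two, isUnit_iff_ne_zero]
      simp only [Matrix.cons_val', Matrix.cons_val_zero, Matrix.cons_val_one, Matrix.of_apply, Matrix.cons_val_fin_one]
      rw [show la 0 * a * (mu 1 * b) - la 1 * b * (mu 0 * a) = -(a * b) * D by rw [hD]; ring]
      exact mul_ne_zero (neg_ne_zero.2 (mul_ne_zero ha0 hb0)) hD0
    · exact mul_ne_zero (inv_ne_zero (by simp [hD0, ha0, hb0, hq0])) (by simp)
    · have hsub : subst !![la 0 * a, la 1 * b; mu 0 * a, mu 1 * b] (binForm la mu) =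
          C (-(D ^ 4 * a ^ 2 * b ^ 2 * (a * q))) * N (b * p / (a * q)) := by
        have hC : C (a * q) * C (b * p / (a * q)) = (C (b * p) : MvPolynomial (Fin 2) k) := by
          rw [← map_mul, mul_div_cancel₀ _ (mul_ne_zero ha0 hq0)]
        simp only [N, binForm, Fin.prod_univ_four, subst, map_mul, map_sub, aeval_X, algHom_C, algebraMap_eq,
          Fin.sum_univ_two, Matrix.cons_val', Matrix.cons_val_zero, Matrix.cons_val_one, Matrix.of_apply,
          Matrix.cons_val_fin_one, l2, m2, l3, m3, hD, map_add, map_neg, map_pow] at hC ⊢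
        linear_combination (-(C (la 1) * C (mu 0) - C (la 0) * C (mu 1)) ^ 4 * C a ^ 2 * C b ^ 2 *
          X 0 * X 1 ^ 2 * (X 0 - X 1)) * hC
      rw [hsub, ← mul_assoc, ← map_mul]
      rw [show (D ^ 4 * a ^ 2 * b ^ 2 * (a * q))⁻¹ * -1 * -(D ^ 4 * a ^ 2 * b ^ 2 * (a * q)) = 1 by field_simp,
        map_one, one_mul]
  · rw [invI_eq]
    have hw : (D ^ 2 * (a * q)) ^ 2 * P (b * p / (a * q)) = D ^ 4 * ((b * p) ^ 2 - (a * q) * (b * p) + (a * q) ^ 2) := by
      simp only [P]; field_simp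
    rw [hw, hD]
    simp only [invI, e, l2, m2, l3, m3]
    ring
  · rw [invJ_eq]
    have hw : (D ^ 2 * (a * q)) ^ 6 * Q (b * p / (a * q)) ^ 2 =
        (D ^ 6 * ((b * p + a * q) * (9 * (a * q) * (b * p) - 2 * (b * p + a * q) ^ 2))) ^ 2 := by
      simp only [Q]; field_simp
    have hJ : invJ (e la mu) = D ^ 6 * ((b * p + a * q) * (9 * (a * q) * (b * p) - 2 * (b * p + a * q) ^ 2)) := by
      rw [hD]
      simp only [invJ, e, l2, m2, l3, m3]
      ring
    rw [hw, hJ]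

theorem main (h2 : (2 : k) ≠ 0) (h3 : (3 : k) ≠ 0) (la mu la' mu' : Fin 4 → k)
    (hd : disc la mu ≠ 0) (hd' : disc la' mu' ≠ 0)
    (h : invI (coef la mu) ^ 3 * invJ (coef la' mu') ^ 2 = invI (coef la' mu') ^ 3 * invJ (coef la mu) ^ 2) :
    Equiv' (binForm la mu) (binForm la' mu') := by
  obtain ⟨s, w, hs, hs', hw, hf, hI, hJ⟩ := exists_normal la mu hd
  obtain ⟨t, v, ht, ht', hv, hg, hI', hJ'⟩ := exists_normal la' mu' hd'
  refine (hf.trans ?_).trans hg.symm
  refine normal_equiv hs hs' ht ht' ?_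
  rw [hI, hJ', hI', hJ] at h
  have h1 : P s ^ 3 * Q t ^ 2 = P t ^ 3 * Q s ^ 2 := by
    refine mul_left_cancel₀ (mul_ne_zero (pow_ne_zero 6 hw) (pow_ne_zero 6 hv)) ?_
    linear_combination h
  have hid : ∀ x : k, 4 * P x ^ 3 - Q x ^ 2 = 27 * (x * (x - 1)) ^ 2 := fun x => by simp only [P, Q]; ring
  have h27 : (27 : k) ≠ 0 := by
    rw [show (27 : k) = 3 * 3 * 3 by norm_num]
    exact mul_ne_zero (mul_ne_zero h3 h3) h3
  refine mul_left_cancel₀ h27 ?_
  linear_combination -h1 + (-(P s ^ 3)) * hid t + (P t ^ 3) * hid s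

end Groth.Agent.Quartic
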